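import Groth.Prelude.Def_ClSub2
import Mathlib.AlgebraicGeometry.Morphisms.Finite
import Mathlib.AlgebraicGeometry.Morphisms.Proper
import Mathlib.AlgebraicGeometry.PullbackCarrier

/-!
# Closed subsets proper over a base

Basic API for `ClSub.IsProperOver`.
-/

set_option autoImplicit false

universe u

open CategoryTheory CategoryTheory.Limits AlgebraicGeometry

namespace ProperOverLib

variable {X Y S T U : Scheme.{u}}

/-- Separatedness descends along universally closed surjections. -/
theorem isSeparated_of_comp_surjective (h : U ⟶ T) (g : T ⟶ S) [UniversallyClosed h]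
    [Surjective h] [IsSeparated (h ≫ g)] : IsSeparated g := by
  let m := pullback.map (h ≫ g) (h ≫ g) g g h h (𝟙 S) (by simp) (by simp)
  have hm : UniversallyClosed m :=
    MorphismProperty.pullbackMap (P := @UniversallyClosed) ‹_› ‹_› rfl rfl
  have hfac : pullback.diagonal (h ≫ g) ≫ m = h ≫ pullback.diagonal g := by
    apply pullback.hom_ext
    · simp only [m, Category.assoc, pullback.map]
      erw [pullback.lift_fst, pullback.diagonal_fst_assoc, pullback.diagonal_fst, Category.comp_id]
    · simp only [m, Category.assoc, pullback.map]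
      erw [pullback.lift_snd, pullback.diagonal_snd_assoc, pullback.diagonal_snd, Category.comp_id]
  refine ⟨IsClosedImmersion.of_isPreimmersion _ ?_⟩
  have : Set.range (pullback.diagonal g) = m '' Set.range (pullback.diagonal (h ≫ g)) := by
    rw [← Set.range_comp]
    change _ = Set.range (⇑(pullback.diagonal (h ≫ g) ≫ m))
    rw [hfac, Scheme.Hom.comp_base]
    exact ((Scheme.Hom.surjective h).range_comp _).symm
  rw [this]
  exact m.isClosedMap _ (pullback.diagonal (h ≫ g)).isClosedEmbedding.isClosed_range

/-- Properness descends along universally closed surjections. -/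
theorem isProper_of_comp_surjective (h : U ⟶ T) (g : T ⟶ S) [UniversallyClosed h]
    [Surjective h] [LocallyOfFiniteType g] [IsProper (h ≫ g)] : IsProper g := by
  have : IsSeparated g := isSeparated_of_comp_surjective h g
  have : UniversallyClosed g := .of_comp_surjective h g
  constructor

/-- If `T` is proper over `S` and maps universally closedly to `Y`, every closed immersion into `Y`
with image inside the image of `T` is proper over `S`. -/
theorem isProper_comp_of_range_subset (g : T ⟶ Y) (q : Y ⟶ S) [LocallyOfFiniteType q]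
    [UniversallyClosed g] [IsProper (g ≫ q)] (j : U ⟶ Y) [IsClosedImmersion j]
    (hr : Set.range j ⊆ Set.range g) : IsProper (j ≫ q) := by
  have hs : Surjective (pullback.snd g j) := by
    rw [surjective_iff, ← Set.range_eq_univ, Scheme.Pullback.range_snd]
    exact Set.eq_univ_of_forall fun x => hr ⟨x, rfl⟩
  have : IsProper (pullback.snd g j ≫ j ≫ q) := by
    rw [← pullback.condition_assoc]
    infer_instance
  exact isProper_of_comp_surjective (pullback.snd g j) _

theorem range_subschemeι_vanishingIdeal (Z : TopologicalSpace.Closeds X) :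
    Set.range (Scheme.IdealSheafData.vanishingIdeal Z).subschemeι = (Z : Set X) := by
  rw [Scheme.IdealSheafData.range_subschemeι]
  simp [Scheme.IdealSheafData.coe_support_vanishingIdeal, Z.isClosed.closure_eq]

theorem of_map (g : T ⟶ Y) (q : Y ⟶ S) [LocallyOfFiniteType q] [UniversallyClosed g]
    [IsProper (g ≫ q)] (Z : Set Y) (hZ : IsClosed Z) (hr : Z ⊆ Set.range g) :
    ClSub.IsProperOver q Z :=
  ⟨hZ, isProper_comp_of_range_subset g q _ (by rw [range_subschemeι_vanishingIdeal]; exact hr)⟩

theorem of_map_range (g : T ⟶ Y) (q : Y ⟶ S) [LocallyOfFiniteType q] [UniversallyClosed g]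
    [IsProper (g ≫ q)] : ClSub.IsProperOver q (Set.range g) :=
  of_map g q _ g.isClosedMap.isClosed_range le_rfl

theorem exists_closedImmersion {f : X ⟶ S} {Z : Set X} (h : ClSub.IsProperOver f Z) :
    ∃ (T : Scheme.{u}) (i : T ⟶ X), IsClosedImmersion i ∧ Set.range i = Z ∧ IsProper (i ≫ f) :=
  let ⟨hZ, hp⟩ := h
  ⟨_, _, inferInstance, range_subschemeι_vanishingIdeal ⟨Z, hZ⟩, hp⟩

theorem isProper_comp_closedImmersion {f : X ⟶ S} [LocallyOfFiniteType f] {Z : Set X}
    (h : ClSub.IsProperOver f Z) (j : T ⟶ X) [IsClosedImmersion j] (hr : Set.range j ⊆ Z) :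
    IsProper (j ≫ f) := by
  obtain ⟨T', i, hi, rfl, hp⟩ := exists_closedImmersion h
  exact isProper_comp_of_range_subset i f j hr

theorem union {f : X ⟶ S} [LocallyOfFiniteType f] {Z Z' : Set X} (h : ClSub.IsProperOver f Z)
    (h' : ClSub.IsProperOver f Z') : ClSub.IsProperOver f (Z ∪ Z') := by
  obtain ⟨T, i, hi, rfl, hp⟩ := exists_closedImmersion h
  obtain ⟨T', i', hi', rfl, hp'⟩ := exists_closedImmersion h'
  have hm : IsProper (coprod.map (i ≫ f) (i' ≫ f)) :=
    IsZariskiLocalAtTarget.coprodMap _ _ hp hp'
  have he : coprod.desc i i' ≫ f = coprod.map (i ≫ f) (i' ≫ f) ≫ coprod.desc (𝟙 S) (𝟙 S) := by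
    apply coprod.hom_ext <;> simp
  have : IsProper (coprod.desc i i' ≫ f) := by rw [he]; infer_instance
  refine of_map (coprod.desc i i') f _ (h.1.union h'.1) ?_
  rintro x (⟨y, rfl⟩ | ⟨y, rfl⟩)
  · exact ⟨(coprod.inl : T ⟶ T ⨿ T') y, by rw [← Scheme.Hom.comp_apply, coprod.inl_desc]⟩
  · exact ⟨(coprod.inr : T' ⟶ T ⨿ T') y, by rw [← Scheme.Hom.comp_apply, coprod.inr_desc]⟩

theorem empty (f : X ⟶ S) [LocallyOfFiniteType f] : ClSub.IsProperOver f ∅ := by
  refine ⟨isClosed_empty, ?_⟩
  set i := (Scheme.IdealSheafData.vanishingIdeal (⟨∅, isClosed_empty⟩ :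
    TopologicalSpace.Closeds X)).subschemeι with hi
  have hr : Set.range i = ∅ := range_subschemeι_vanishingIdeal _
  have := Set.range_eq_empty_iff.mp hr
  infer_instance

theorem iUnion {f : X ⟶ S} [LocallyOfFiniteType f] {ι : Type*} [Finite ι] {Z : ι → Set X}
    (hZ : ∀ i, ClSub.IsProperOver f (Z i)) : ClSub.IsProperOver f (Set.iUnion Z) := by
  have := Fintype.ofFinite ι
  classical
  have key : ∀ s : Finset ι, ClSub.IsProperOver f (⋃ i ∈ s, Z i) := fun s => by
    induction s using Finset.induction_on with
    | empty => simpa using empty f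
    | insert a s ha ih => rw [Finset.set_biUnion_insert]; exact union (hZ a) ih
  simpa using key Finset.univ

end ProperOverLib
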